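import Cfsg.Agent.CharactersDeep.Clifford
import Mathlib.GroupTheory.GroupAction.Quotient

/-!
# Primitive groups of degree two

The images in `PGL(2, ℂ)` of the noncentral elements fix exactly two lines each; counting the
orbits of the fixed lines gives the central index 12, 24 or 60.
-/

set_option autoImplicit false
set_option linter.unusedSectionVars false
set_option linter.style.haveILetI false

namespace CfsgLib.PrimitiveTwo

open Cfsg

universe u

/-- The arithmetic of three orbits. -/
theorem three_orbits {N o₁ o₂ o₃ e₁ e₂ e₃ : ℕ} (h1 : o₁ * e₁ = N) (h2 : o₂ * e₂ = N)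
    (h3 : o₃ * e₃ = N) (he1 : 2 ≤ e₁) (he2 : 2 ≤ e₂) (he3 : 2 ≤ e₃) (ho1 : 3 ≤ o₁) (ho2 : 3 ≤ o₂)
    (ho3 : 3 ≤ o₃) (hsum : o₁ + o₂ + o₃ = N + 2) : N = 12 ∨ N = 24 ∨ N = 60 := by
  have key : ∀ a b c x y z : ℕ, a * x = N → b * y = N → c * z = N → 2 ≤ x → x ≤ y → y ≤ z →
      3 ≤ c → a + b + c = N + 2 → N = 12 ∨ N = 24 ∨ N = 60 := by
    intro a b c x y z hx hy hz h2x hxy hyz hc hs
    have hx2 : x = 2 := by
      by_contra hne
      have : 3 ≤ x := by omega
      have : a * 3 ≤ N := hx ▸ Nat.mul_le_mul_left a this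
      have : b * 3 ≤ N := hy ▸ Nat.mul_le_mul_left b (by omega)
      have : c * 3 ≤ N := hz ▸ Nat.mul_le_mul_left c (by omega)
      omega
    subst hx2
    have hy3 : y = 3 := by
      by_contra hne
      rcases Nat.lt_or_ge y 3 with h | h
      · have : y = 2 := by omega
        subst this
        omega
      · have : b * 4 ≤ N := hy ▸ Nat.mul_le_mul_left b (by omega)
        have : c * 4 ≤ N := hz ▸ Nat.mul_le_mul_left c (by omega)
        omega
    subst hy3
    have hz5 : z ≤ 5 := by
      by_contra hne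
      have : c * 6 ≤ N := hz ▸ Nat.mul_le_mul_left c (by omega)
      omega
    interval_cases z <;> omega
  rcases le_total e₁ e₂ with h12 | h12 <;> rcases le_total e₂ e₃ with h23 | h23 <;>
    rcases le_total e₁ e₃ with h13 | h13
  all_goals first
    | exact key o₁ o₂ o₃ e₁ e₂ e₃ h1 h2 h3 he1 (by omega) (by omega) ho3 (by omega)
    | exact key o₁ o₃ o₂ e₁ e₃ e₂ h1 h3 h2 he1 (by omega) (by omega) ho2 (by omega)
    | exact key o₂ o₁ o₃ e₂ e₁ e₃ h2 h1 h3 he2 (by omega) (by omega) ho3 (by omega)
    | exact key o₂ o₃ o₁ e₂ e₃ e₁ h2 h3 h1 he2 (by omega) (by omega) ho1 (by omega)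
    | exact key o₃ o₁ o₂ e₃ e₁ e₂ h3 h1 h2 he3 (by omega) (by omega) ho2 (by omega)
    | exact key o₃ o₂ o₁ e₃ e₂ e₁ h3 h2 h1 he3 (by omega) (by omega) ho1 (by omega)

variable {G : Type u} [Group G] [Fintype G]

/-- A nonscalar element fixes exactly two lines. -/
theorem exists_two_lines {d : ℕ} (hd : d = 2) (ρ : Representation ℂ G (Fin d → ℂ)) {g : G}
    (hns : ¬ ∃ c : ℂ, ρ g = c • LinearMap.id) :
    ∃ L₁ L₂ : Submodule ℂ (Fin d → ℂ), L₁ ≠ L₂ ∧
      Module.finrank ℂ L₁ = 1 ∧ Module.finrank ℂ L₂ = 1 ∧ L₁.map (ρ g) ≤ L₁ ∧ L₂.map (ρ g) ≤ L₂ ∧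
      ∀ L : Submodule ℂ (Fin d → ℂ), Module.finrank ℂ L = 1 → L.map (ρ g) ≤ L → L = L₁ ∨ L = L₂ := by
  obtain ⟨b, μ, hb⟩ := Characters.exists_eigenbasis ρ g
  have hfd : Module.finrank ℂ (Fin d → ℂ) = 2 := by rw [Module.finrank_fin_fun, hd]
  set i₀ : Fin (Module.finrank ℂ (Fin d → ℂ)) := ⟨0, by omega⟩
  set i₁ : Fin (Module.finrank ℂ (Fin d → ℂ)) := ⟨1, by omega⟩
  have hi : ∀ i, i = i₀ ∨ i = i₁ := fun i => by
    have := i.2
    simp only [Fin.ext_iff, i₀, i₁]
    omega
  have hne : μ i₀ ≠ μ i₁ := fun h => hns ⟨μ i₀, b.ext fun i => by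
    rw [(hb i).1]
    rcases hi i with rfl | rfl <;> simp [h]⟩
  have hrank : ∀ i, Module.finrank ℂ (Submodule.span ℂ {b i}) = 1 := fun i =>
    finrank_span_singleton (b.ne_zero i)
  have hinv : ∀ i, (Submodule.span ℂ {b i}).map (ρ g) ≤ Submodule.span ℂ {b i} := fun i => by
    rw [Submodule.map_span_le]
    rintro _ rfl
    rw [(hb i).1]
    exact Submodule.smul_mem _ _ (Submodule.mem_span_singleton_self _)
  refine ⟨_, _, fun h => ?_, hrank i₀, hrank i₁, hinv i₀, hinv i₁, fun L hL hLg => ?_⟩
  · obtain ⟨c, hc⟩ := Submodule.mem_span_singleton.1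
      (h ▸ Submodule.mem_span_singleton_self (b i₀) : b i₀ ∈ Submodule.span ℂ {b i₁})
    have := congrArg (fun v => b.repr v i₀) hc
    simp [Finsupp.single_apply, i₀, i₁, Fin.ext_iff] at this
  obtain ⟨⟨v, hvL⟩, hv0, hvs⟩ := finrank_eq_one_iff'.1 hL
  obtain ⟨t, ht⟩ := hvs ⟨ρ g v, hLg ⟨v, hvL, rfl⟩⟩
  have ht' : ρ g v = t • v := (congrArg Subtype.val ht).symm
  have hco : ∀ i, μ i * b.repr v i = t * b.repr v i := by
    intro i
    have h1 : ρ g v = ∑ j, (μ j * b.repr v j) • b j := by
      conv_lhs => rw [← b.sum_repr v]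
      rw [map_sum]
      refine Finset.sum_congr rfl fun j _ => ?_
      rw [map_smul, (hb j).1, smul_smul, mul_comm]
    have h2 := congrArg (fun w => b.repr w i) (h1.symm.trans ht')
    simp only [b.repr_sum_self, map_smul, Finsupp.smul_apply, smul_eq_mul] at h2
    exact h2
  have hsub : ∀ i, b.repr v i = 0 → ∀ j, j ≠ i → L = Submodule.span ℂ {b j} := by
    intro i hi0 j hji
    have hv : v = b.repr v j • b j := by
      conv_lhs => rw [← b.sum_repr v]
      rw [Finset.sum_eq_single j]
      · intro k _ hk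
        have : k = i := by
          rcases hi k with h | h <;> rcases hi j with h' | h' <;> rcases hi i with h'' | h'' <;>
            simp_all
        rw [this, hi0, zero_smul]
      · simp
    have hbL : b j ∈ L := by
      have hc : b.repr v j ≠ 0 := fun h => hv0 (Subtype.ext (show v = 0 by rw [hv, h, zero_smul]))
      rw [← inv_smul_smul₀ hc (b j), ← hv]
      exact L.smul_mem _ hvL
    exact (Submodule.eq_of_le_of_finrank_eq ((Submodule.span_singleton_le_iff_mem _ _).2 hbL)
      (by rw [hrank, hL])).symm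
  by_cases h0 : b.repr v i₀ = 0
  · exact Or.inr (hsub i₀ h0 i₁ (by simp [i₀, i₁, Fin.ext_iff]))
  · have ht0 : μ i₀ = t := mul_right_cancel₀ h0 (hco i₀)
    refine Or.inl (hsub i₁ ?_ i₀ (by simp [i₀, i₁, Fin.ext_iff]))
    by_contra h1
    exact hne (ht0.trans (mul_right_cancel₀ h1 (hco i₁)).symm)

/-- **The central index of a primitive group of degree two.** -/
theorem center_index {d : ℕ} (hd : d = 2) (ρ : Representation ℂ G (Fin d → ℂ)) [ρ.IsIrreducible]
    (hinj : Function.Injective ρ)
    (hprim : ∀ H : Subgroup G, H ≠ ⊤ → ∀ θ : H → ℂ, Cfsg.IsCharacter H θ →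
      ρ.character ≠ Cfsg.indFun H θ) :
    (Subgroup.center G).index = 12 ∨ (Subgroup.center G).index = 24 ∨
      (Subgroup.center G).index = 60 := by
  classical
  haveI := Characters.nontrivial_of_isIrreducible ρ
  set Z := Subgroup.center G with hZdef
  have hfd : Module.finrank ℂ (Fin d → ℂ) = 2 := by rw [Module.finrank_fin_fun, hd]
  have hZ : ∀ g, g ∈ Z ↔ ∃ c : ℂ, ρ g = c • LinearMap.id := by
    refine fun g => ⟨fun h => Characters.central_scalar ρ h, fun ⟨c, hc⟩ => ?_⟩
    refine Subgroup.mem_center_iff.2 fun a => hinj ?_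
    rw [map_mul, map_mul, hc]
    ext v
    simp
  have hmap1 : ∀ L : Submodule ℂ (Fin d → ℂ), L.map (ρ 1) = L := fun L => by
    rw [map_one]; exact Submodule.map_id L
  have hmapm : ∀ (g h : G) (L : Submodule ℂ (Fin d → ℂ)),
      L.map (ρ (g * h)) = (L.map (ρ h)).map (ρ g) := fun g h L => by
    rw [map_mul]; exact Submodule.map_comp _ _ L
  have hρinj : ∀ g, Function.Injective (ρ g) := fun g a b hab => by
    have := congrArg (ρ g⁻¹) hab
    rwa [← Module.End.mul_apply, ← Module.End.mul_apply, ← map_mul, inv_mul_cancel, map_one,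
      Module.End.one_apply, Module.End.one_apply] at this
  have hrk : ∀ (g : G) (L : Submodule ℂ (Fin d → ℂ)), Module.finrank ℂ (L.map (ρ g)) =
      Module.finrank ℂ L := fun g L =>
    (Submodule.equivMapOfInjective _ (hρinj g) L).finrank_eq.symm
  -- the lines fixed by noncentral elements
  let P : Submodule ℂ (Fin d → ℂ) → Prop := fun L =>
    Module.finrank ℂ L = 1 ∧ ∃ g, g ∉ Z ∧ L.map (ρ g) = L
  let Ω := {L : Submodule ℂ (Fin d → ℂ) // P L}
  haveI : Finite Ω := by
    have hfin : {L | P L}.Finite := by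
      refine Set.Finite.subset (Set.finite_iUnion fun g : {g : G // g ∉ Z} =>
        Set.toFinite ({(exists_two_lines hd ρ (fun h => g.2 ((hZ g.1).2 h))).choose,
          (exists_two_lines hd ρ (fun h => g.2 ((hZ g.1).2 h))).choose_spec.choose} :
            Set (Submodule ℂ (Fin d → ℂ)))) ?_
      rintro L ⟨hL, g, hg, hgL⟩
      refine Set.mem_iUnion.2 ⟨⟨g, hg⟩, ?_⟩
      exact (exists_two_lines hd ρ (fun h => hg ((hZ g).2 h))).choose_spec.choose_spec.2.2.2.2.2 L hL hgL.le
    exact hfin.to_subtype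
  haveI := Fintype.ofFinite Ω
  letI : MulAction G Ω :=
    { smul := fun g L => ⟨L.1.map (ρ g), by
        obtain ⟨hL, h, hh, hfix⟩ := L.2
        refine ⟨(hrk g _).trans hL, g * h * g⁻¹, fun hc => hh ?_, ?_⟩
        · have := (inferInstance : Z.Normal).conj_mem _ hc g⁻¹
          simpa [mul_assoc] using this
        · rw [← hmapm, inv_mul_cancel_right, hmapm, hfix]⟩
      one_smul := fun L => Subtype.ext (hmap1 L.1)
      mul_smul := fun g h L => Subtype.ext (hmapm g h L.1) }
  have hsmul : ∀ (g : G) (L : Ω), (g • L).1 = L.1.map (ρ g) := fun g L => rfl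
  -- fixed lines
  have hfixc : ∀ g : G, g ∈ Z → MulAction.fixedBy Ω g = Set.univ := by
    intro g hg
    obtain ⟨c, hc⟩ := (hZ g).1 hg
    refine Set.eq_univ_of_forall fun L => Subtype.ext ?_
    rw [hsmul, hc]
    refine Submodule.eq_of_le_of_finrank_eq ?_ (by rw [← hc, hrk])
    rintro _ ⟨v, hv, rfl⟩
    exact L.1.smul_mem c hv
  have hfix2 : ∀ g : G, g ∉ Z → Nat.card (MulAction.fixedBy Ω g) = 2 := by
    intro g hg
    obtain ⟨L₁, L₂, hne, h1, h2, hg1, hg2, honly⟩ := exists_two_lines hd ρ fun h => hg ((hZ g).2 h)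
    have e1 : L₁.map (ρ g) = L₁ := Submodule.eq_of_le_of_finrank_eq hg1 (hrk g L₁)
    have e2 : L₂.map (ρ g) = L₂ := Submodule.eq_of_le_of_finrank_eq hg2 (hrk g L₂)
    set M₁ : Ω := ⟨L₁, h1, g, hg, e1⟩
    set M₂ : Ω := ⟨L₂, h2, g, hg, e2⟩
    have : MulAction.fixedBy Ω g = {M₁, M₂} := by
      ext L
      constructor
      · intro h
        rcases honly L.1 L.2.1 (le_of_eq (congrArg Subtype.val h)) with h' | h'
        · exact Or.inl (Subtype.ext h')
        · exact Or.inr (Subtype.ext h')
      · rintro (rfl | rfl)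
        · exact Subtype.ext e1
        · exact Subtype.ext e2
    rw [this, Nat.card_coe_set_eq, Set.ncard_pair (fun h => hne (congrArg Subtype.val h))]
  -- Burnside's count
  set N := Z.index with hN
  set k := Nat.card (MulAction.orbitRel.Quotient G Ω) with hk
  have hz : 0 < Nat.card Z := Nat.card_pos
  have hcount : Nat.card Ω + 2 * N = k * N + 2 := by
    haveI := Fintype.ofFinite (MulAction.orbitRel.Quotient G Ω)
    have h := MulAction.sum_card_fixedBy_eq_card_orbits_mul_card_group G Ω
    simp only [← Nat.card_eq_fintype_card] at h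
    rw [← Finset.sum_filter_add_sum_filter_not Finset.univ (· ∈ Z),
      Finset.sum_congr rfl (g := fun _ => Nat.card Ω) (fun g hg => by
        rw [hfixc g (Finset.mem_filter.1 hg).2, Nat.card_univ]),
      Finset.sum_congr (s₁ := Finset.univ.filter fun x => ¬ x ∈ Z) rfl (g := fun _ => 2)
        (fun g hg => hfix2 g (Finset.mem_filter.1 hg).2),
      Finset.sum_const, Finset.sum_const, smul_eq_mul, smul_eq_mul] at h
    have h1 : (Finset.univ.filter (· ∈ Z)).card = Nat.card Z := by
      rw [Nat.card_eq_fintype_card, Fintype.card_subtype]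
    have h2 := Finset.card_filter_add_card_filter_not (s := (Finset.univ : Finset G)) (· ∈ Z)
    rw [Finset.card_univ, ← Nat.card_eq_fintype_card, h1, ← Z.card_mul_index, ← hN] at h2
    rw [h1, ← Z.card_mul_index, ← hN, show Nat.card (MulAction.orbitRel.Quotient G Ω) = k from rfl] at h
    apply Nat.eq_of_mul_eq_mul_left hz
    calc Nat.card Z * (Nat.card Ω + 2 * N)
        = Nat.card Z * Nat.card Ω + 2 * (Nat.card Z * N) := by ring
      _ = Nat.card Z * Nat.card Ω + 2 * (Nat.card Z +
            (Finset.univ.filter fun x => ¬ x ∈ Z).card) := by rw [h2]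
      _ = (Nat.card Z * Nat.card Ω + (Finset.univ.filter fun x => ¬ x ∈ Z).card * 2) +
            2 * Nat.card Z := by ring
      _ = k * (Nat.card Z * N) + 2 * Nat.card Z := by rw [h]
      _ = Nat.card Z * (k * N + 2) := by ring
  have hN2 : 2 ≤ N := by
    by_contra h
    have hN1 : N = 1 := by
      have : N ≠ 0 := Subgroup.index_ne_zero_of_finite
      omega
    obtain ⟨v, hv⟩ := exists_ne (0 : Fin d → ℂ)
    rcases IsSimpleOrder.eq_bot_or_eq_top (⟨Submodule.span ℂ {v}, fun g x hx => by
      obtain ⟨c, hc⟩ := (hZ g).1 (Subgroup.index_eq_one.1 hN1 ▸ Subgroup.mem_top g)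
      rw [hc]
      exact Submodule.smul_mem _ c hx⟩ : Subrepresentation ρ) with h0 | h0
    · exact hv (Submodule.span_singleton_eq_bot.1 (congrArg Subrepresentation.toSubmodule h0))
    · have h1 : Submodule.span ℂ {v} = ⊤ := congrArg Subrepresentation.toSubmodule h0
      have h2 := finrank_span_singleton (K := ℂ) hv
      rw [h1, finrank_top, hfd] at h2
      omega
  -- the orbit sizes
  have horb : ∀ L : Ω, ∃ e, 2 ≤ e ∧ Nat.card (MulAction.orbit G L) * e = N ∧
      3 ≤ Nat.card (MulAction.orbit G L) := by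
    intro L
    set S := MulAction.stabilizer G L with hS
    have hidx : S.index = Nat.card (MulAction.orbit G L) := by
      rw [MulAction.index_stabilizer, Nat.card_coe_set_eq]
    have hZS : Z ≤ S := fun g hg => by
      have := hfixc g hg
      exact (Set.eq_univ_iff_forall.1 this L : g • L = L)
    obtain ⟨e, he⟩ := Subgroup.card_dvd_of_le hZS
    obtain ⟨hL1, g, hg, hgL⟩ := L.2
    have he2 : 2 ≤ e := by
      by_contra hlt
      have hgS : g ∈ S := Subtype.ext hgL
      have h1 : e ≠ 0 := fun h0 => Nat.card_pos.ne' (he.trans (by rw [h0, mul_zero]))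
      have h2 : e = 1 := by omega
      rw [h2, mul_one] at he
      exact hg (Subgroup.eq_of_le_of_card_ge hZS he.le ▸ hgS)
    have hoe : Nat.card (MulAction.orbit G L) * e = N := by
      have h1 := S.card_mul_index
      rw [he, hidx, ← Z.card_mul_index, mul_assoc] at h1
      rw [hN, mul_comm]
      exact Nat.eq_of_mul_eq_mul_left hz h1
    refine ⟨e, he2, hoe, ?_⟩
    by_contra hlt
    have ho : 0 < Nat.card (MulAction.orbit G L) := by
      haveI := (MulAction.nonempty_orbit (M := G) L).to_subtype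
      exact Nat.card_pos
    by_cases hone : S = ⊤
    · -- a common fixed line
      rcases IsSimpleOrder.eq_bot_or_eq_top (⟨L.1, fun g x hx => by
        have h := congrArg Subtype.val (show g • L = L from
          MulAction.mem_stabilizer_iff.1 ((SetLike.ext_iff.1 hone g).2 (Subgroup.mem_top g)))
        rw [← h]
        exact ⟨x, hx, rfl⟩⟩ : Subrepresentation ρ) with h0 | h0
      · have h1 : L.1 = ⊥ := congrArg Subrepresentation.toSubmodule h0
        rw [h1, finrank_bot] at hL1
        omega
      · have h1 : L.1 = ⊤ := congrArg Subrepresentation.toSubmodule h0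
        rw [h1, finrank_top, hfd] at hL1
        omega
    -- two lines permuted: induced from the stabilizer of one
    have h2 : S.index = 2 := by
      have : S.index ≠ 1 := fun h => hone (Subgroup.index_eq_one.1 h)
      omega
    haveI := Fintype.ofFinite S
    let σ : Representation ℂ S (Fin d → ℂ) := ρ.comp S.subtype
    let A : Subrepresentation σ := ⟨L.1, fun g x hx => by
      have h := congrArg Subtype.val (show (g : G) • L = L from MulAction.mem_stabilizer_iff.1 g.2)
      rw [← h]
      exact ⟨x, hx, rfl⟩⟩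
    haveI : NeZero (Nat.card S : ℂ) := ⟨Nat.cast_ne_zero.2 Nat.card_pos.ne'⟩
    obtain ⟨B, hB⟩ := Characters.exists_compl σ A
    have hsplit : σ.character = A.toRepresentation.character + B.toRepresentation.character := by
      rw [← Representation.char_iso (Characters.prodEquivOfCompl σ A B hB), Characters.char_prod]
    haveI : A.toRepresentation.IsIrreducible :=
      Characters.isIrreducible_of_finrank_eq_one _ (show Module.finrank ℂ L.1 = 1 from hL1)
    have hθ := Characters.isCharacter_character A.toRepresentation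
    have hχ : Cfsg.IsIrrCharacter G ρ.character := Characters.isIrrCharacter_character ρ
    refine hprim S hone _ hθ (CharactersDeep.Clifford.eq_of_constituent_of_degree_le
      (Characters.isCharacter_indFun S hθ) hχ ?_ (a := 2) (b := 2) ?_ ?_ le_rfl).symm
    · rw [Characters.classInner_indFun S _ (Characters.isClassFunction_of_isIrr hχ),
        show (fun h : S => ρ.character h) = σ.character from rfl, hsplit,
        Characters.classInner_add_right,
        Characters.classInner_isIrr_self (Characters.isIrrCharacter_character A.toRepresentation)]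
      obtain ⟨m, hm⟩ := Characters.classInner_characters hθ
        (Characters.isCharacter_character B.toRepresentation)
      rw [hm, ← Nat.cast_one, ← Nat.cast_add]
      exact_mod_cast (by omega : 1 + m ≠ 0)
    · rw [Characters.indFun_one, Representation.char_one, h2,
        show Module.finrank ℂ A.toSubmodule = 1 from hL1]
      norm_num
    · rw [Representation.char_one, hfd]
  -- evaluate
  haveI := Fintype.ofFinite (MulAction.orbitRel.Quotient G Ω)
  have hsum : Nat.card Ω = ∑ q : MulAction.orbitRel.Quotient G Ω,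
      Nat.card (MulAction.orbit G q.out) := by
    rw [Nat.card_congr (MulAction.selfEquivSigmaOrbits G Ω), Nat.card_sigma]
  have hk' : Fintype.card (MulAction.orbitRel.Quotient G Ω) = k := Nat.card_eq_fintype_card.symm
  have hle : 2 * Nat.card Ω ≤ k * N := by
    rw [hsum, Finset.mul_sum, ← hk', ← Finset.card_univ, ← smul_eq_mul, ← Finset.sum_const]
    refine Finset.sum_le_sum fun q _ => ?_
    obtain ⟨e, he, hoe, -⟩ := horb q.out
    rw [← hoe, mul_comm 2]
    exact Nat.mul_le_mul_left _ he
  have hge : 3 * k ≤ Nat.card Ω := by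
    rw [hsum, ← hk', mul_comm 3, ← Finset.card_univ, ← smul_eq_mul, ← Finset.sum_const]
    exact Finset.sum_le_sum fun q _ => (horb q.out).choose_spec.2.2
  have hk3 : k = 3 := by
    rcases Nat.lt_or_ge k 3 with h | h
    · interval_cases k <;> omega
    · by_contra hne
      have : 4 * N ≤ k * N := Nat.mul_le_mul_right N (by omega)
      omega
  let ι := Fintype.equivFinOfCardEq (hk'.trans hk3)
  rw [← Equiv.sum_comp ι.symm, Fin.sum_univ_three] at hsum
  obtain ⟨e₁, he1, h1, ho1⟩ := horb (ι.symm 0).out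
  obtain ⟨e₂, he2, h2, ho2⟩ := horb (ι.symm 1).out
  obtain ⟨e₃, he3, h3, ho3⟩ := horb (ι.symm 2).out
  rw [hk3] at hcount
  exact three_orbits h1 h2 h3 he1 he2 he3 ho1 ho2 ho3 (by omega)

end CfsgLib.PrimitiveTwo
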